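import Cfsg.Agent.Lib.Recog.FiM22.Class.Stage16

set_option autoImplicit false
set_option maxRecDepth 20000
set_option maxHeartbeats 1000000
set_option Elab.async false

/-! A leaf of the first search with the search below it (owner: helper13). -/

namespace CfsgLib.Recog.FiM22

/-- The data. -/
def stage19 : Stage := ⟨[2,4,13,418,11],[2,4,13,418,11,17,295,36,16,593,175,63,324,20,537,41,351,656,295,17,11,36,324,63,656,635,295,669,351,324,17,41,63,635,593,669,16,41,351,537,635,20,635,669,669],0x29d029d027b0014027b0219015f00290010029d0251027b003f002900110144015f029d0127027b0290003f01440024000b001101270290015f0029021900140144003f00af02510010002401270011000b01a2000d00040002,[],[]⟩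

theorem stage19_ok : stageOK std stage19 = true := by decide +kernel

end CfsgLib.Recog.FiM22
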