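import Cfsg.Agent.Lib.Recog.FiM22.Class.Stage17

set_option autoImplicit false
set_option maxRecDepth 20000
set_option maxHeartbeats 1000000
set_option Elab.async false

/-! A leaf of the first search with the search below it (owner: helper13). -/

namespace CfsgLib.Recog.FiM22

/-- The data. -/
def stage20 : Stage := ⟨[2,4,13,418,71],[2,4,13,418,71,17,295,86,112,574,175,355,487,170,468,275,382,617,295,17,71,86,487,355,617,545,295,676,382,487,17,275,355,545,574,676,112,275,382,468,545,170,545,676,676],0x2a402a4022100aa022101d4017e0113007002a4023e022101630113001101e7017e02a4012702210269016301e700560047001101270269017e011301d400aa01e7016300af023e0070005601270011004701a2000d00040002,[],[]⟩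

theorem stage20_ok : stageOK std stage20 = true := by decide +kernel

end CfsgLib.Recog.FiM22
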