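import Cfsg.Agent.Lib.Recog.FiM22.Class.Stage21

set_option autoImplicit false
set_option maxRecDepth 20000
set_option maxHeartbeats 1000000
set_option Elab.async false

/-! A leaf of the first search with the search below it (owner: helper13). -/

namespace CfsgLib.Recog.FiM22

/-- The data. -/
def stage24 : Stage := ⟨[2,4,13,488,11],[2,4,13,488,11,17,219,36,16,576,161,63,334,20,556,41,272,657,219,17,11,36,334,63,657,644,219,676,272,334,17,41,63,644,576,676,16,41,272,556,644,20,644,676,676],0x2a402a4028400140284022c01100029001002a402400284003f00290011014e011002a400db02840291003f014e0024000b001100db029101100029022c0014014e003f00a102400010002400db0011000b01e8000d00040002,[],[]⟩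

theorem stage24_ok : stageOK std stage24 = true := by decide +kernel

end CfsgLib.Recog.FiM22
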