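import Cfsg.Agent.Lib.Recog.FiM22.Class.Stage22

set_option autoImplicit false
set_option maxRecDepth 20000
set_option maxHeartbeats 1000000
set_option Elab.async false

/-! A leaf of the first search with the search below it (owner: helper13). -/

namespace CfsgLib.Recog.FiM22

/-- The data. -/
def stage25 : Stage := ⟨[2,4,13,488,71],[2,4,13,488,71,17,219,86,112,208,161,355,327,170,143,275,402,107,219,17,71,86,327,355,107,88,219,64,402,327,17,275,355,88,208,64,112,275,402,143,88,170,88,64,64],0x400040005800aa0058008f019201130070004000d0005801630113001101470192004000db0058006b0163014700560047001100db006b01920113008f00aa0147016300a100d00070005600db0011004701e8000d00040002,[],[]⟩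

theorem stage25_ok : stageOK std stage25 = true := by decide +kernel

end CfsgLib.Recog.FiM22
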