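import Cfsg.Agent.Lib.Recog.FiM22.Class.Stage23

set_option autoImplicit false
set_option maxRecDepth 20000
set_option maxHeartbeats 1000000
set_option Elab.async false

/-! A leaf of the first search with the search below it (owner: helper13). -/

namespace CfsgLib.Recog.FiM22

/-- The data. -/
def stage26 : Stage := ⟨[2,4,13,488,131],[2,4,13,488,131,17,219,168,180,446,161,259,281,256,575,357,417,527,219,17,131,168,281,259,527,604,219,669,417,281,17,357,259,604,446,669,180,357,417,575,604,256,604,669,669],0x29d029d025c0100025c023f01a1016500b4029d01be025c010301650011011901a1029d00db025c020f0103011900a80083001100db020f01a10165023f01000119010300a101be00b400a800db0011008301e8000d00040002,[],[]⟩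

theorem stage26_ok : stageOK std stage26 = true := by decide +kernel

end CfsgLib.Recog.FiM22
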