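import Cfsg.Agent.Lib.Recog.FiM22.Class.Stage1

set_option autoImplicit false
set_option maxRecDepth 20000
set_option maxHeartbeats 1000000
set_option Elab.async false

/-! A leaf of the first search with the search below it (owner: helper13). -/

namespace CfsgLib.Recog.FiM22

/-- The data. -/
def stage4 : Stage := ⟨[2,4,13,50,11],[2,4,13,50,11,17,122,36,16,32,198,63,51,20,29,41,77,44,122,17,11,36,51,63,44,22,122,64,77,51,17,41,63,22,32,64,16,41,77,29,22,20,22,64,64],0x400040001600140016001d004d00290010004000200016003f002900110033004d0040007a0016002c003f00330024000b0011007a002c004d0029001d00140033003f00c6002000100024007a0011000b0032000d00040002,[],[]⟩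

theorem stage4_ok : stageOK std stage4 = true := by decide +kernel

end CfsgLib.Recog.FiM22
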