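import Cfsg.Agent.Lib.Recog.FiM22.Class.Stage2

set_option autoImplicit false
set_option maxRecDepth 20000
set_option maxHeartbeats 1000000
set_option Elab.async false

/-! A leaf of the first search with the search below it (owner: helper13). -/

namespace CfsgLib.Recog.FiM22

/-- The data. -/
def stage5 : Stage := ⟨[2,4,13,50,71],[2,4,13,50,71,17,122,86,112,419,198,355,332,170,555,275,472,499,122,17,71,86,332,355,499,585,122,669,472,332,17,275,355,585,419,669,112,275,472,555,585,170,585,669,669],0x29d029d024900aa0249022b01d801130070029d01a30249016301130011014c01d8029d007a024901f30163014c005600470011007a01f301d80113022b00aa014c016300c601a300700056007a001100470032000d00040002,[],[]⟩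

theorem stage5_ok : stageOK std stage5 = true := by decide +kernel

end CfsgLib.Recog.FiM22
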