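import Cfsg.Agent.Lib.Recog.FiM22.Class.Stage3

set_option autoImplicit false
set_option maxRecDepth 20000
set_option maxHeartbeats 1000000
set_option Elab.async false

/-! A leaf of the first search with the search below it (owner: helper13). -/

namespace CfsgLib.Recog.FiM22

/-- The data. -/
def stage6 : Stage := ⟨[2,4,13,50,131],[2,4,13,50,131,17,122,168,180,536,198,259,466,256,399,357,331,570,122,17,131,168,466,259,570,481,122,676,331,466,17,357,259,481,536,676,180,357,331,399,481,256,481,676,676],0x2a402a401e1010001e1018f014b016500b402a4021801e101030165001101d2014b02a4007a01e1023a010301d200a800830011007a023a014b0165018f010001d2010300c6021800b400a8007a001100830032000d00040002,[],[]⟩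

theorem stage6_ok : stageOK std stage6 = true := by decide +kernel

end CfsgLib.Recog.FiM22
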