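import Cfsg.Agent.Lib.Recog.FiM22.Class.Nodes
import Cfsg.Agent.Lib.Recog.FiM22.Class.Stage0
import Cfsg.Agent.Lib.Recog.FiM22.Class.Stage1
import Cfsg.Agent.Lib.Recog.FiM22.Class.Stage2
import Cfsg.Agent.Lib.Recog.FiM22.Class.Stage3
import Cfsg.Agent.Lib.Recog.FiM22.Class.Stage4
import Cfsg.Agent.Lib.Recog.FiM22.Class.Stage5
import Cfsg.Agent.Lib.Recog.FiM22.Class.Stage6
import Cfsg.Agent.Lib.Recog.FiM22.Class.Stage7
import Cfsg.Agent.Lib.Recog.FiM22.Class.Stage8
import Cfsg.Agent.Lib.Recog.FiM22.Class.Stage9
import Cfsg.Agent.Lib.Recog.FiM22.Class.Stage10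
import Cfsg.Agent.Lib.Recog.FiM22.Class.Stage11
import Cfsg.Agent.Lib.Recog.FiM22.Class.Stage12
import Cfsg.Agent.Lib.Recog.FiM22.Class.Stage13
import Cfsg.Agent.Lib.Recog.FiM22.Class.Stage14
import Cfsg.Agent.Lib.Recog.FiM22.Class.Stage15
import Cfsg.Agent.Lib.Recog.FiM22.Class.Stage16
import Cfsg.Agent.Lib.Recog.FiM22.Class.Stage17
import Cfsg.Agent.Lib.Recog.FiM22.Class.Stage18
import Cfsg.Agent.Lib.Recog.FiM22.Class.Stage19
import Cfsg.Agent.Lib.Recog.FiM22.Class.Stage20
import Cfsg.Agent.Lib.Recog.FiM22.Class.Stage21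
import Cfsg.Agent.Lib.Recog.FiM22.Class.Stage22
import Cfsg.Agent.Lib.Recog.FiM22.Class.Stage23
import Cfsg.Agent.Lib.Recog.FiM22.Class.Stage24
import Cfsg.Agent.Lib.Recog.FiM22.Class.Stage25
import Cfsg.Agent.Lib.Recog.FiM22.Class.Stage26
import Cfsg.Agent.Lib.Recog.FiM22.Class.Stage27
import Cfsg.Agent.Lib.Recog.FiM22.Class.Stage28
import Cfsg.Agent.Lib.Recog.FiM22.Class.Stage29
import Cfsg.Agent.Lib.Recog.FiM22.Class.Stage30
import Cfsg.Agent.Lib.Recog.FiM22.Class.Stage31
import Cfsg.Agent.Lib.Recog.FiM22.Class.Stage32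

set_option autoImplicit false
set_option Elab.async false
set_option maxRecDepth 20000

/-! The classification (owner: helper13). -/

namespace CfsgLib.Recog.FiM22

/-- The leaves of the first search. -/
def stages : List Stage := [stage0,stage1,stage2,stage3,stage4,stage5,stage6,stage7,stage8,stage9,stage10,stage11,stage12,stage13,stage14,stage15,stage16,stage17,stage18,stage19,stage20,stage21,stage22,stage23,stage24,stage25,stage26,stage27,stage28,stage29,stage30,stage31,stage32]

theorem std_ok : stdOK std = true := by decide +kernel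

/-- The check of some nodes of the first search. -/
noncomputable def nodesPart (lo len : ℕ) : Bool :=
  ((nodesOne.drop lo).take len).all (nodeOK std.g baseOne (fun r => com r 0) (keys nodesOne (stages.map (·.pre))))

theorem nodesOne_part0 : nodesPart 0 8 = true := by decide +kernel

theorem nodesOne_part1 : nodesPart 8 8 = true := by decide +kernel

theorem nodesOne_part2 : nodesPart 16 8 = true := by decide +kernel

theorem nodesOne_part3 : nodesPart 24 8 = true := by decide +kernel

theorem nodesOne_part4 : nodesPart 32 8 = true := by decide +kernel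

theorem nodesOne_part5 : nodesPart 40 8 = true := by decide +kernel

theorem nodesOne_part6 : nodesPart 48 8 = true := by decide +kernel

theorem nodesOne_part7 : nodesPart 56 8 = true := by decide +kernel

theorem nodesOne_rest :
    (nodesOne.drop 64).all (nodeOK std.g baseOne (fun r => com r 0) (keys nodesOne (stages.map (·.pre)))) = true := by
  decide +kernel

theorem nodes_cat {lo len : ℕ} (h : nodesPart lo len = true) (h' : (nodesOne.drop (lo + len)).all
    (nodeOK std.g baseOne (fun r => com r 0) (keys nodesOne (stages.map (·.pre)))) = true) :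
    (nodesOne.drop lo).all (nodeOK std.g baseOne (fun r => com r 0) (keys nodesOne (stages.map (·.pre)))) = true := by
  rw [← List.take_append_drop len (nodesOne.drop lo), List.all_append, Bool.and_eq_true, List.drop_drop]
  exact ⟨h, h'⟩

theorem nodesOne_ok : nodesOne.all (nodeOK std.g baseOne (fun r => com r 0) (keys nodesOne (stages.map (·.pre)))) = true := by
  rw [← List.drop_zero (l := nodesOne)]
  exact (nodes_cat nodesOne_part0 (nodes_cat nodesOne_part1 (nodes_cat nodesOne_part2 (nodes_cat nodesOne_part3 (nodes_cat nodesOne_part4 (nodes_cat nodesOne_part5 (nodes_cat nodesOne_part6 (nodes_cat nodesOne_part7 nodesOne_rest))))))))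

theorem root_ok : (keys nodesOne (stages.map (·.pre))).any (leq []) = true := by decide +kernel

/-- A set that looks like a common neighbourhood is the standard one up to an automorphism. -/
theorem cand_classified {P : ℕ → Prop} (hP : IsCand std P) :
    ∃ σ, IsAut σ ∧ ∀ y, (∃ x, P x ∧ σ x = y) ↔ y ∈ std.p0 := by
  refine classify std_ok ?_ nodesOne_ok ?_ hP (stages := stages)
  · obtain ⟨k, hk, e⟩ := List.any_eq_true.1 root_ok
    rw [leq, decide_eq_true_eq] at e
    exact e ▸ hk
  · simp only [stages, List.all_cons, List.all_nil, Bool.and_true, stage0_ok, stage1_ok, stage2_ok, stage3_ok, stage4_ok, stage5_ok, stage6_ok, stage7_ok, stage8_ok, stage9_ok, stage10_ok, stage11_ok, stage12_ok, stage13_ok, stage14_ok, stage15_ok, stage16_ok, stage17_ok, stage18_ok, stage19_ok, stage20_ok, stage21_ok, stage22_ok, stage23_ok, stage24_ok, stage25_ok, stage26_ok, stage27_ok, stage28_ok, stage29_ok, stage30_ok, stage31_ok, stage32_ok]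

end CfsgLib.Recog.FiM22
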