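import Cfsg.Agent.Lib.Recog.FiM22.Class.Std

set_option autoImplicit false
set_option maxRecDepth 20000
set_option maxHeartbeats 1000000
set_option Elab.async false

/-! The first search (owner: helper13). -/

namespace CfsgLib.Recog.FiM22

/-- The nodes of the first search. -/
def nodesOne : List Node := [
⟨[],[(2,[],2),(4,[11,20],2),(11,[36],2),(12,[21,63],2),(13,[16,41],2),(16,[20],2),(17,[11,41],2),(18,[11,21],2),(20,[16],2),(21,[43],2),(22,[44],2),(26,[16,21],2),(27,[11,46],2),(29,[32],2),(32,[29],2),(33,[53],2),(36,[11],2),(41,[63],2),(43,[21],2),(44,[22],2),(46,[67],2),(49,[11,71],2),(50,[11,29],2),(51,[77],2),(53,[33],2),(56,[83],2),(63,[41],2),(64,[11,44],2),(65,[100],2),(67,[46],2),(71,[86],2),(74,[11,150],2),(75,[11,92],2),(76,[11,53],2),(77,[51],2),(79,[126],2),(82,[21,324],2),(83,[56],2),(86,[71],2),(88,[107],2),(92,[141],2),(100,[65],2),(107,[88],2),(112,[170],2),(115,[179],2),(118,[11,168],2),(121,[16,53],2),(122,[11,77],2),(123,[11,79],2),(124,[21,334],2),(126,[79]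,2),(131,[168],2),(133,[11,83],2),(141,[92],2),(143,[208],2),(150,[212],2),(161,[16,272],2),(164,[206],2),(166,[11,100],2),(168,[131],2),(170,[112],2),(174,[11,107],2),(175,[16,351],2),(179,[115],2),(180,[256],2),(188,[227],2),(189,[305],2),(196,[253],2),(198,[16,77],2),(206,[164],2),(208,[143],2),(212,[150],2),(219,[11,272],2),(220,[11,179],2),(221,[299],2),(227,[188],2),(232,[271],2),(237,[350],2),(242,[21,51],2),(245,[11,164],2),(253,[196],2),(256,[180],2),(259,[357],2),(271,[232],2),(272,[334],2),(275,[355],2),(281,[417],2),(292,[11,390],2),(293,[16,415],2),(295,[11,351],2),(296,[11,253],2),(299,[221],2),(305,[189],2),(308,[403],2),(310,[11,407],2),(311,[16,486],2),(324,[351],2),(327,[402],2),(331,[466],2),(332,[472],2),(334,[272],2),(347,[11,415],2),(348,[443],2),(350,[237],2),(351,[324],2),(355,[275],2),(357,[259],2),(362,[11,481],2),(365,[11,486],2),(366,[462],2),(382,[487],2),(390,[522],2),(397,[491],2),(399,[536],2),(402,[327],2),(403,[308],2),(407,[543],2),(414,[509],2),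(415,[470],2),(417,[281],2),(418,[11,537],2),(419,[555],2),(433,[11,499],2),(437,[564],2),(443,[348],2),(446,[575],2),(455,[582],2),(462,[366],2),(464,[486],2),(466,[331],2),(468,[574],2),(470,[415],2),(472,[332],2),(481,[570],2),(484,[11,552],2),(486,[464],2),(487,[382],2),(488,[11,556],2),(491,[397],2),(499,[585],2),(502,[11,602],2),(509,[414],2),(522,[390],2),(527,[604],2),(536,[399],2),(537,[593],2),(543,[407],2),(545,[617],2),(552,[645],2),(555,[419],2),(556,[576],2),(564,[437],2),(570,[481],2),(574,[468],2),(575,[446],2),(576,[556],2),(582,[455],2),(585,[499],2),(590,[665],2),(593,[537],2),(595,[658],2),(602,[636],2),(604,[527],2),(617,[545],2),(625,[11,564],2),(635,[656],2),(636,[602],2),(637,[11,582],2),(644,[657],2),(645,[552],2),(656,[635],2),(657,[644],2),(658,[595],2),(665,[590],2),(667,[11,617],2),(668,[11,604],2),(669,[11,656],2),(676,[11,657],2),(687,[11,665],2),(688,[11,658],2)]⟩,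
⟨[2],[(4,[],4),(12,[13,18],4),(13,[17],4),(17,[13],4),(18,[26],4),(26,[18],4),(27,[13,118],4),(49,[74],4),(50,[13,198],4),(64,[],64),(74,[49],4),(75,[118],4),(76,[121],4),(82,[13,365],4),(118,[75],4),(121,[76],4),(122,[198],4),(123,[13,433],4),(124,[13,347],4),(133,[13,362],4),(161,[219],4),(166,[13,49],4),(174,[292],4),(175,[295],4),(198,[122],4),(219,[161],4),(220,[362],4),(242,[13,76],4),(245,[310],4),(292,[174],4),(293,[347],4),(295,[175],4),(296,[433],4),(310,[245],4),(311,[365],4),(347,[293],4),(362,[220],4),(365,[311],4),(418,[13,175],4),(433,[296],4),(484,[13,245],4),(488,[13,161],4),(502,[13,174],4),(625,[667],4),(637,[668],4),(667,[625],4),(668,[637],4),(669,[],669),(676,[],676),(687,[13,668],4),(688,[13,667],4)]⟩,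
⟨[2,4],[(13,[],13),(17,[4],13),(18,[4,12],13),(26,[12],13),(49,[4,166],13),(74,[166],13),(75,[27],13),(76,[4,242],13),(118,[4,27],13),(121,[242],13),(122,[50],13),(161,[4,488],13),(174,[4,502],13),(175,[4,418],13),(198,[4,50],13),(219,[488],13),(220,[133],13),(245,[4,484],13),(292,[502],13),(293,[124],13),(295,[418],13),(296,[123],13),(310,[484],13),(311,[82],13),(347,[4,124],13),(362,[4,133],13),(365,[4,82],13),(433,[4,123],13),(625,[688],13),(637,[687],13),(667,[4,688],13),(668,[4,687],13)]⟩,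
⟨[2,4,13],[(12,[],12),(27,[],27),(50,[],50),(82,[],82),(123,[],123),(124,[],124),(133,[],133),(166,[],166),(242,[],242),(418,[],418),(484,[],484),(488,[],488),(502,[],502),(687,[],687),(688,[],688)]⟩,
⟨[2,4,13,12],[(71,[],71),(86,[2],71),(88,[64],71),(107,[2,64],71),(131,[],131),(164,[64],131),(168,[2],131),(206,[2,64],131),(481,[676],131),(499,[2,669],71),(527,[2,669],131),(545,[676],71),(570,[2,676],131),(585,[669],71),(604,[669],131),(617,[2,676],71)]⟩,
⟨[2,4,13,27],[(11,[],11),(22,[64],11),(36,[2],11),(44,[2,64],11),(131,[],131),(164,[64],131),(168,[2],131),(206,[2,64],131),(481,[676],131),(527,[2,669],131),(570,[2,676],131),(604,[669],131),(635,[669],11),(644,[676],11),(656,[2,669],11),(657,[2,676],11)]⟩,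
⟨[2,4,13,50],[(11,[],11),(22,[64],11),(36,[2],11),(44,[2,64],11),(71,[],71),(86,[2],71),(88,[64],71),(107,[2,64],71),(131,[],131),(164,[64],131),(168,[2],131),(206,[2,64],131),(481,[676],131),(499,[2,669],71),(527,[2,669],131),(545,[676],71),(570,[2,676],131),(585,[669],71),(604,[669],131),(617,[2,676],71),(635,[669],11),(644,[676],11),(656,[2,669],11),(657,[2,676],11)]⟩,
⟨[2,4,13,82],[(71,[],71),(86,[2],71),(88,[64],71),(107,[2,64],71),(131,[],131),(164,[64],131),(168,[2],131),(206,[2,64],131),(481,[676],131),(499,[2,669],71),(527,[2,669],131),(545,[676],71),(570,[2,676],131),(585,[669],71),(604,[669],131),(617,[2,676],71)]⟩,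
⟨[2,4,13,123],[(11,[],11),(22,[64],11),(36,[2],11),(44,[2,64],11),(71,[],71),(86,[2],71),(88,[64],71),(107,[2,64],71),(499,[2,669],71),(545,[676],71),(585,[669],71),(617,[2,676],71),(635,[669],11),(644,[676],11),(656,[2,669],11),(657,[2,676],11)]⟩,
⟨[2,4,13,124],[(71,[],71),(86,[2],71),(88,[64],71),(107,[2,64],71),(131,[],131),(164,[64],131),(168,[2],131),(206,[2,64],131),(481,[676],131),(499,[2,669],71),(527,[2,669],131),(545,[676],71),(570,[2,676],131),(585,[669],71),(604,[669],131),(617,[2,676],71)]⟩,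
⟨[2,4,13,133],[(11,[],11),(22,[64],11),(36,[2],11),(44,[2,64],11),(131,[],131),(164,[64],131),(168,[2],131),(206,[2,64],131),(481,[676],131),(527,[2,669],131),(570,[2,676],131),(604,[669],131),(635,[669],11),(644,[676],11),(656,[2,669],11),(657,[2,676],11)]⟩,
⟨[2,4,13,166],[(11,[],11),(22,[64],11),(36,[2],11),(44,[2,64],11),(71,[],71),(86,[2],71),(88,[64],71),(107,[2,64],71),(499,[2,669],71),(545,[676],71),(585,[669],71),(617,[2,676],71),(635,[669],11),(644,[676],11),(656,[2,669],11),(657,[2,676],11)]⟩,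
⟨[2,4,13,242],[(71,[],71),(86,[2],71),(88,[64],71),(107,[2,64],71),(131,[],131),(164,[64],131),(168,[2],131),(206,[2,64],131),(481,[676],131),(499,[2,669],71),(527,[2,669],131),(545,[676],71),(570,[2,676],131),(585,[669],71),(604,[669],131),(617,[2,676],71)]⟩,
⟨[2,4,13,418],[(11,[],11),(22,[64],11),(36,[2],11),(44,[2,64],11),(71,[],71),(86,[2],71),(88,[64],71),(107,[2,64],71),(131,[],131),(164,[64],131),(168,[2],131),(206,[2,64],131),(481,[676],131),(499,[2,669],71),(527,[2,669],131),(545,[676],71),(570,[2,676],131),(585,[669],71),(604,[669],131),(617,[2,676],71),(635,[669],11),(644,[676],11),(656,[2,669],11),(657,[2,676],11)]⟩,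
⟨[2,4,13,484],[(11,[],11),(22,[64],11),(36,[2],11),(44,[2,64],11),(131,[],131),(164,[64],131),(168,[2],131),(206,[2,64],131),(481,[676],131),(527,[2,669],131),(570,[2,676],131),(604,[669],131),(635,[669],11),(644,[676],11),(656,[2,669],11),(657,[2,676],11)]⟩,
⟨[2,4,13,488],[(11,[],11),(22,[64],11),(36,[2],11),(44,[2,64],11),(71,[],71),(86,[2],71),(88,[64],71),(107,[2,64],71),(131,[],131),(164,[64],131),(168,[2],131),(206,[2,64],131),(481,[676],131),(499,[2,669],71),(527,[2,669],131),(545,[676],71),(570,[2,676],131),(585,[669],71),(604,[669],131),(617,[2,676],71),(635,[669],11),(644,[676],11),(656,[2,669],11),(657,[2,676],11)]⟩,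
⟨[2,4,13,502],[(11,[],11),(22,[64],11),(36,[2],11),(44,[2,64],11),(71,[],71),(86,[2],71),(88,[64],71),(107,[2,64],71),(499,[2,669],71),(545,[676],71),(585,[669],71),(617,[2,676],71),(635,[669],11),(644,[676],11),(656,[2,669],11),(657,[2,676],11)]⟩,
⟨[2,4,13,687],[(11,[],11),(22,[64],11),(36,[2],11),(44,[2,64],11),(131,[],131),(164,[64],131),(168,[2],131),(206,[2,64],131),(481,[676],131),(527,[2,669],131),(570,[2,676],131),(604,[669],131),(635,[669],11),(644,[676],11),(656,[2,669],11),(657,[2,676],11)]⟩,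
⟨[2,4,13,688],[(11,[],11),(22,[64],11),(36,[2],11),(44,[2,64],11),(71,[],71),(86,[2],71),(88,[64],71),(107,[2,64],71),(499,[2,669],71),(545,[676],71),(585,[669],71),(617,[2,676],71),(635,[669],11),(644,[676],11),(656,[2,669],11),(657,[2,676],11)]⟩,
⟨[2,64],[]⟩,
⟨[2,669],[]⟩,
⟨[2,676],[]⟩]

end CfsgLib.Recog.FiM22
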