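import Cfsg.Agent.Lib.Recog.FiM22.Class.Std

set_option autoImplicit false

/-! The check of a leaf of the first search done in pieces (owner: helper13). -/

namespace CfsgLib.Recog.FiM22

/-- The check of a leaf of the first search without the leaves below it. -/
noncomputable def stageHead (St : Std) (S : Stage) : Bool :=
  Nat.beq S.pre.length 5 && (imageOK St S.pre S.s1 S.packed 0 && (!(nodupB S.s1) ||
    ((keys S.nodes []).any (leq [0]) &&
      S.nodes.all (nodeOK St.g (baseTwo St.g S.s1) (fun r => memb r S.s1 && com r (S.s1.getD 0 0))
        (keys S.nodes (S.leaves.map (·.pre)))))))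

/-- The check of some of the leaves below. -/
noncomputable def leavesPart (St : Std) (S : Stage) (lo len : ℕ) : Bool :=
  ((S.leaves.drop lo).take len).all (leafOK St S.s1)

theorem leaves_cat {St : Std} {S : Stage} {lo len : ℕ} (h : leavesPart St S lo len = true)
    (h' : (S.leaves.drop (lo + len)).all (leafOK St S.s1) = true) :
    (S.leaves.drop lo).all (leafOK St S.s1) = true := by
  rw [← List.take_append_drop len (S.leaves.drop lo), List.all_append, Bool.and_eq_true, List.drop_drop]
  exact ⟨h, h'⟩

theorem stageOK_of_parts {St : Std} {S : Stage} (h : stageHead St S = true)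
    (h' : (S.leaves.drop 0).all (leafOK St S.s1) = true) : stageOK St S = true := by
  rw [List.drop_zero] at h'
  simp only [stageHead, Bool.and_eq_true, Bool.or_eq_true] at h
  simp only [stageOK, Bool.and_eq_true, Bool.or_eq_true]
  exact ⟨h.1, h.2.1, h.2.2.imp id fun hh => ⟨hh, h'⟩⟩

end CfsgLib.Recog.FiM22
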