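import Cfsg.Agent.Lib.Recog.FiM22.Class.Stage18

set_option autoImplicit false
set_option maxRecDepth 20000
set_option maxHeartbeats 1000000
set_option Elab.async false

/-! A leaf of the first search with the search below it (owner: helper13). -/

namespace CfsgLib.Recog.FiM22

/-- The data. -/
def stage21 : Stage := ⟨[2,4,13,418,131],[2,4,13,418,131,17,295,168,180,299,175,259,403,256,221,357,308,206,295,17,131,168,403,259,206,164,295,64,308,403,17,357,259,164,299,64,180,357,308,221,164,256,164,64,64],0x40004000a4010000a400dd0134016500b40040012b00a4010301650011019301340040012700a400ce0103019300a800830011012700ce0134016500dd01000193010300af012b00b400a801270011008301a2000d00040002,[],[]⟩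

theorem stage21_ok : stageOK std stage21 = true := by decide +kernel

end CfsgLib.Recog.FiM22
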