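import Cfsg.Agent.Lib.Recog.FiM22.Classify

set_option autoImplicit false
set_option maxRecDepth 20000
set_option maxHeartbeats 1000000
set_option Elab.async false

/-! The standard data of the classification (owner: helper13). -/

namespace CfsgLib.Recog.FiM22

/-- The standard data. -/
def std : Std where
  g := [419,227,53,27,44]
  der := [(2,1,5),(3,2,6),(4,0,7),(4,1,8),(4,3,9),(5,3,10),(5,4,11),(6,4,12),(7,1,13),(7,3,14),(7,5,15),(7,6,16),(8,3,17),(8,6,18),(9,5,19),(10,4,20),(10,7,21),(10,8,22),(10,9,23),(11,6,24),(13,3,25),(13,6,26),(13,9,27),(13,10,28),(13,12,29),(14,5,30),(14,10,31),(14,11,32),(15,6,33),(15,9,34),(15,12,35),(16,8,36),(17,15,37),(17,16,38),(18,14,39),(18,15,40),(19,13,41),(19,16,42),(21,17,43),(24,21,44)]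
  s := [419,227,53,27,44,522,402,357,446,56,399,625,271,26,41,29,242,564,36,43,355,198,64,76,46,49,350,88,468,403,637,126,543,206,166,118,305,71,168,17,50,16,51,100,582]
  move := [[],[44,26],[625,26],[564,26],[357],[44,29],[36,26],[44],[26],[41],[64,26],[29],[242],[446],[56],[625],[271],[49],[350],[637],[198],[355],[468],[126],[206],[564],[36],[41,26],[64],[305],[43],[76],[166],[46],[543],[543,26],[403],[50],[51],[56,36],[71],[637,26],[168],[51,26],[51,29]]
  p0 := [1,2,3,11,12,13,14,15,22,23,24,25,26,34,35,36,37,44,45,54,64,65,74,79,80,81,91,93,97,98,99,100,101,102,114,116,118,119,123,124,125,126,127,128,129,130,131,132,147,149,150,152,153,154,156,157,158,159,160,161,162,163,164,165,166,167,168,169,171,191,192,194,195,196,197,199,200,201,202,203,204,205,206,207,209,210,212,214,238,239,240,241,244,245,246,247,248,250,251,253,255,260,287,288,289,290,291,293,294,296,298,301,304,335,336,338,340,342,344,346,349,384,386,388,391,432]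
  toZero := [[1],[6],[7],[8],[54,8],[9],[10],[185],[408],[448,3],[91]]
  packed := 0x2460064003300100032001100a800470131007600a600ce021f007e027d019301d40058015e0031002e004c004000c60163002b0024023400f2001d0029001a010f0271018f003801be01650192020a002c001b003500e301a3

end CfsgLib.Recog.FiM22
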